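import Cfsg.Agent.Lib.OmegaSeven.Group

/-!
The spin module of `Ω₇(3)`.
-/

set_option autoImplicit false
set_option maxRecDepth 100000

namespace Cfsg.Agent.Lib.OmegaSeven

open Matrix Cfsg.Agent.Lib.Classical Cfsg.Agent.Lib.Classical.QuadOmega

/-- Spin matrices. -/
abbrev Mat8 : Type := Matrix (Fin 8) (Fin 8) (ZMod 3)

/-- A Clifford generator. -/
def clP : Mat8 :=
  !![1, 0, 0, 0, 0, 0, 0, 0;
    0, 2, 0, 0, 0, 0, 0, 0;
    0, 0, 2, 0, 0, 0, 0, 0;
    0, 0, 0, 1, 0, 0, 0, 0;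
    0, 0, 0, 0, 2, 0, 0, 0;
    0, 0, 0, 0, 0, 1, 0, 0;
    0, 0, 0, 0, 0, 0, 1, 0;
    0, 0, 0, 0, 0, 0, 0, 2]

/-- A Clifford generator. -/
def clW0 : Mat8 :=
  !![0, 0, 0, 0, 0, 0, 0, 0;
    1, 0, 0, 0, 0, 0, 0, 0;
    0, 0, 0, 0, 0, 0, 0, 0;
    0, 0, 1, 0, 0, 0, 0, 0;
    0, 0, 0, 0, 0, 0, 0, 0;
    0, 0, 0, 0, 1, 0, 0, 0;
    0, 0, 0, 0, 0, 0, 0, 0;
    0, 0, 0, 0, 0, 0, 1, 0]

/-- A Clifford generator. -/
def clW1 : Mat8 :=
  !![0, 0, 0, 0, 0, 0, 0, 0;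
    0, 0, 0, 0, 0, 0, 0, 0;
    1, 0, 0, 0, 0, 0, 0, 0;
    0, 2, 0, 0, 0, 0, 0, 0;
    0, 0, 0, 0, 0, 0, 0, 0;
    0, 0, 0, 0, 0, 0, 0, 0;
    0, 0, 0, 0, 1, 0, 0, 0;
    0, 0, 0, 0, 0, 2, 0, 0]

/-- A Clifford generator. -/
def clW2 : Mat8 :=
  !![0, 0, 0, 0, 0, 0, 0, 0;
    0, 0, 0, 0, 0, 0, 0, 0;
    0, 0, 0, 0, 0, 0, 0, 0;
    0, 0, 0, 0, 0, 0, 0, 0;
    1, 0, 0, 0, 0, 0, 0, 0;
    0, 2, 0, 0, 0, 0, 0, 0;
    0, 0, 2, 0, 0, 0, 0, 0;
    0, 0, 0, 1, 0, 0, 0, 0]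

/-- A Clifford generator. -/
def clC0 : Mat8 :=
  !![0, 1, 0, 0, 0, 0, 0, 0;
    0, 0, 0, 0, 0, 0, 0, 0;
    0, 0, 0, 1, 0, 0, 0, 0;
    0, 0, 0, 0, 0, 0, 0, 0;
    0, 0, 0, 0, 0, 1, 0, 0;
    0, 0, 0, 0, 0, 0, 0, 0;
    0, 0, 0, 0, 0, 0, 0, 1;
    0, 0, 0, 0, 0, 0, 0, 0]

/-- A Clifford generator. -/
def clC1 : Mat8 :=
  !![0, 0, 1, 0, 0, 0, 0, 0;
    0, 0, 0, 2, 0, 0, 0, 0;
    0, 0, 0, 0, 0, 0, 0, 0;
    0, 0, 0, 0, 0, 0, 0, 0;
    0, 0, 0, 0, 0, 0, 1, 0;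
    0, 0, 0, 0, 0, 0, 0, 2;
    0, 0, 0, 0, 0, 0, 0, 0;
    0, 0, 0, 0, 0, 0, 0, 0]

/-- A Clifford generator. -/
def clC2 : Mat8 :=
  !![0, 0, 0, 0, 1, 0, 0, 0;
    0, 0, 0, 0, 0, 2, 0, 0;
    0, 0, 0, 0, 0, 0, 2, 0;
    0, 0, 0, 0, 0, 0, 0, 1;
    0, 0, 0, 0, 0, 0, 0, 0;
    0, 0, 0, 0, 0, 0, 0, 0;
    0, 0, 0, 0, 0, 0, 0, 0;
    0, 0, 0, 0, 0, 0, 0, 0]

/-- The invariant form. -/
def beta : Mat8 :=
  !![0, 0, 0, 0, 0, 0, 0, 1;
    0, 0, 0, 0, 0, 0, 2, 0;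
    0, 0, 0, 0, 0, 1, 0, 0;
    0, 0, 0, 0, 2, 0, 0, 0;
    0, 0, 0, 2, 0, 0, 0, 0;
    0, 0, 1, 0, 0, 0, 0, 0;
    0, 2, 0, 0, 0, 0, 0, 0;
    1, 0, 0, 0, 0, 0, 0, 0]

/-- The spin lift of a representative. -/
def liftRep0 : Mat8 :=
  !![1, 0, 0, 0, 0, 0, 0, 0;
    2, 1, 0, 0, 0, 0, 0, 0;
    0, 0, 1, 0, 0, 0, 0, 0;
    0, 0, 1, 1, 0, 0, 0, 0;
    0, 0, 0, 0, 1, 0, 0, 0;
    0, 0, 0, 0, 1, 1, 0, 0;
    1, 0, 0, 0, 0, 0, 1, 0;
    2, 1, 0, 0, 0, 0, 2, 1]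

/-- The spin lift of a representative. -/
def liftRep1 : Mat8 :=
  !![1, 0, 0, 0, 0, 0, 0, 0;
    2, 1, 0, 0, 0, 0, 0, 0;
    0, 0, 1, 0, 0, 0, 0, 0;
    0, 0, 1, 1, 0, 0, 0, 0;
    0, 0, 0, 0, 1, 0, 0, 0;
    0, 0, 0, 0, 1, 1, 0, 0;
    2, 0, 0, 0, 0, 0, 1, 0;
    1, 2, 0, 0, 0, 0, 2, 1]

/-- The Clifford generators. -/
def cl : Idx → Mat8
  | .inl _ => clP
  | .inr (.inl i) => ![clW0, clW1, clW2] i
  | .inr (.inr i) => ![clC0, clC1, clC2] i

/-- Polar values on the basis. -/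
def bil : Idx → Idx → ZMod 3
  | .inl _, .inl _ => 2
  | .inr (.inl i), .inr (.inr j) => if i = j then 1 else 0
  | .inr (.inr i), .inr (.inl j) => if i = j then 1 else 0
  | _, _ => 0

/-- The Clifford map. -/
def gam (v : Idx → ZMod 3) : Mat8 := ∑ i, v i • cl i

theorem cl_anti : ∀ i j, cl i * cl j + cl j * cl i = bil i j • (1 : Mat8) := by decide +kernel

theorem cl_beta : ∀ i, (cl i)ᵀ * beta = -(beta * cl i) := by decide +kernel

theorem gam_single (i : Idx) : gam (Pi.single i 1) = cl i := by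
  rw [gam, Finset.sum_eq_single i]
  · simp
  · intro j _ hj
    simp [Pi.single_eq_of_ne hj]
  · simp

theorem gam_add (v w : Idx → ZMod 3) : gam (v + w) = gam v + gam w := by
  simp [gam, add_smul, Finset.sum_add_distrib]

theorem gam_smul (c : ZMod 3) (v : Idx → ZMod 3) : gam (c • v) = c • gam v := by
  simp [gam, Finset.smul_sum, smul_smul]

theorem gam_sub (v w : Idx → ZMod 3) : gam (v - w) = gam v - gam w := by
  simp [gam, sub_smul, Finset.sum_sub_distrib]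

theorem gam_mul_add (v w : Idx → ZMod 3) :
    gam v * gam w + gam w * gam v = QuadraticMap.polar Rq v w • (1 : Mat8) := by
  have e : QuadraticMap.polar Rq v w = ∑ i, ∑ j, v j * w i * bil i j := by
    rw [Rq_eq]
    simp [QuadraticMap.polar, Qf, Cfsg.quadFormOdd, bil, Fintype.sum_sum_type, Fin.sum_univ_three]
    ring
  rw [e, Finset.sum_smul]
  simp only [gam, Finset.sum_smul, Finset.sum_mul, Finset.mul_sum]
  conv_lhs => arg 2; rw [Finset.sum_comm]
  rw [← Finset.sum_add_distrib]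
  refine Finset.sum_congr rfl fun i _ => ?_
  rw [← Finset.sum_add_distrib]
  refine Finset.sum_congr rfl fun j _ => ?_
  rw [mul_smul_comm, smul_mul_assoc, smul_smul, mul_smul_comm, smul_mul_assoc, smul_smul,
    mul_smul (v j * w i) (bil i j), ← cl_anti, smul_add, mul_comm (w i) (v j), add_comm]

theorem gam_sq (v : Idx → ZMod 3) : gam v * gam v = Rq v • (1 : Mat8) := by
  have h := gam_mul_add v v
  rw [QuadraticMap.polar_self] at h
  have h2 : (2 : ZMod 3) • (gam v * gam v) = (2 : ZMod 3) • (Rq v • (1 : Mat8)) := by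
    rw [two_smul, h, smul_smul]
    congr 1
    simp
  have h4 := congrArg (fun M => (2 : ZMod 3) • M) h2
  simpa [smul_smul, show ∀ x : ZMod 3, 2 * (2 * x) = x by decide,
    show (2 : ZMod 3) * 2 = 1 by decide] using h4

theorem gam_beta (v : Idx → ZMod 3) : (gam v)ᵀ * beta = -(beta * gam v) := by
  simp only [gam, Matrix.transpose_sum, Matrix.transpose_smul, Finset.sum_mul, Finset.mul_sum,
    Matrix.smul_mul, Matrix.mul_smul, cl_beta, smul_neg, Finset.sum_neg_distrib]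

/-- `S` is a lift of `M`, with sign `e` and multiplier `m`. -/
def IsLift (M : Matrix Idx Idx (ZMod 3)) (S : Mat8) (e m : ZMod 3) : Prop :=
  e * e = 1 ∧ m * m = 1 ∧ Sᵀ * beta * S = m • beta ∧ ∀ v, gam (M *ᵥ v) * S = e • (S * gam v)

theorem IsLift.one : IsLift 1 1 1 1 := ⟨one_mul _, one_mul _, by simp, fun v => by simp⟩

theorem IsLift.mul {A B : Matrix Idx Idx (ZMod 3)} {S T : Mat8} {e f m n : ZMod 3}
    (h : IsLift A S e m) (k : IsLift B T f n) : IsLift (A * B) (S * T) (e * f) (m * n) := by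
  obtain ⟨h1, h2, h3, h4⟩ := h
  obtain ⟨k1, k2, k3, k4⟩ := k
  refine ⟨by linear_combination (f * f) * h1 + k1, by linear_combination (n * n) * h2 + k2, ?_, fun v => ?_⟩
  · rw [Matrix.transpose_mul, show Tᵀ * Sᵀ * beta * (S * T) = Tᵀ * (Sᵀ * beta * S) * T by
      simp only [Matrix.mul_assoc], h3, Matrix.mul_smul, Matrix.smul_mul, k3, smul_smul]
  · rw [← Matrix.mulVec_mulVec, ← Matrix.mul_assoc, h4, Matrix.smul_mul, Matrix.mul_assoc, k4,
      Matrix.mul_smul, smul_smul, Matrix.mul_assoc]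

theorem beta_sq : beta * beta = 1 := by decide +kernel

theorem IsLift.inv {A B : Matrix Idx Idx (ZMod 3)} {S : Mat8} {e m : ZMod 3}
    (h : IsLift A S e m) (hAB : A * B = 1) : ∃ T, IsLift B T e m ∧ S * T = 1 := by
  obtain ⟨h1, h2, h3, h4⟩ := h
  have hl : (m • (beta * Sᵀ * beta)) * S = 1 := by
    rw [Matrix.smul_mul, show beta * Sᵀ * beta * S = beta * (Sᵀ * beta * S) by simp only [Matrix.mul_assoc],
      h3, Matrix.mul_smul, beta_sq, smul_smul, h2, one_smul]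
  have hr := mul_eq_one_comm.1 hl
  refine ⟨_, ⟨h1, h2, ?_, fun v => ?_⟩, hr⟩
  · obtain ⟨T, hT⟩ : ∃ T, T = m • (beta * Sᵀ * beta) := ⟨_, rfl⟩
    rw [← hT] at hr ⊢
    have e1 : (S * T)ᵀ * beta * (S * T) = Tᵀ * (Sᵀ * beta * S) * T := by
      simp only [Matrix.transpose_mul, Matrix.mul_assoc]
    rw [h3, hr, Matrix.transpose_one, Matrix.one_mul, Matrix.mul_one, Matrix.mul_smul, Matrix.smul_mul] at e1
    conv_rhs => rw [e1, smul_smul, h2, one_smul]
  · have := h4 (B *ᵥ v)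
    rw [Matrix.mulVec_mulVec, hAB, Matrix.one_mulVec] at this
    set T := m • (beta * Sᵀ * beta) with hT
    have h5 := congrArg (fun X => T * X * T) this
    simp only [Matrix.mul_smul, Matrix.smul_mul] at h5
    rw [show T * (gam v * S) * T = T * gam v * (S * T) by simp only [Matrix.mul_assoc],
      show T * (S * gam (B *ᵥ v)) * T = (T * S) * gam (B *ᵥ v) * T by simp only [Matrix.mul_assoc],
      hr, hl, Matrix.mul_one, Matrix.one_mul] at h5
    rw [h5, smul_smul, h1, one_smul]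

theorem lift_refl {a : Idx → ZMod 3} (ha : Rq a ≠ 0) {M : Matrix Idx Idx (ZMod 3)}
    (hM : M = Cfsg.reflectionMatrix (⇑Rq) a) : IsLift M (gam a) (-1) (-(Rq a)) := by
  have hs : Rq a * Rq a = 1 := by
    generalize Rq a = x at ha
    revert x
    decide
  refine ⟨by norm_num, by linear_combination hs, ?_, fun v => ?_⟩
  · rw [gam_beta, Matrix.neg_mul, Matrix.mul_assoc, gam_sq, Matrix.mul_smul, Matrix.mul_one, neg_smul]
  · rw [hM, reflectionMatrix_mulVec Rq ha, refl_apply ha, gam_sub, gam_smul]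
    have h := gam_mul_add a v
    have h' : gam a * gam v = QuadraticMap.polar Rq a v • (1 : Mat8) - gam v * gam a := eq_sub_of_add_eq h
    rw [Matrix.sub_mul, Matrix.smul_mul, gam_sq, h', smul_smul, QuadraticMap.polar_comm (⇑Rq) v a,
      div_mul_cancel₀ _ ha]
    module

theorem exists_lift (g : GO) : ∃ S e m, IsLift ((g : GL Idx (ZMod 3)) : Matrix Idx Idx (ZMod 3)) S e m := by
  revert g
  show ∀ g : Cfsg.isometryGroup (ZMod 3) Qf, ∃ S e m,
    IsLift ((g : GL Idx (ZMod 3)) : Matrix Idx Idx (ZMod 3)) S e m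
  rw [← Rq_eq]
  intro g
  have : g ∈ Subgroup.closure {g : Cfsg.isometryGroup (ZMod 3) ⇑Rq | ∃ v : Idx → ZMod 3, Rq v ≠ 0 ∧
      ((g : GL Idx (ZMod 3)) : Matrix Idx Idx (ZMod 3)) = Cfsg.reflectionMatrix (⇑Rq) v} := by
    rw [closure_reflection_eq_top (F := ZMod 3) Rq nd_Rq (reg_of_two_ne_zero two_ne_zero')]
    exact Subgroup.mem_top g
  induction this using Subgroup.closure_induction with
  | mem x hx =>
    obtain ⟨v, hv, hx⟩ := hx
    exact ⟨_, _, _, lift_refl hv hx⟩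
  | one => exact ⟨1, 1, 1, IsLift.one⟩
  | mul x y _ _ hx hy =>
    obtain ⟨S, e, m, hS⟩ := hx
    obtain ⟨T, f, n, hT⟩ := hy
    exact ⟨_, _, _, hS.mul hT⟩
  | inv x _ hx =>
    obtain ⟨S, e, m, hS⟩ := hx
    obtain ⟨T, hT, -⟩ := hS.inv
      (B := ((x⁻¹ : Cfsg.isometryGroup (ZMod 3) ⇑Rq) : GL Idx (ZMod 3)).val)
      (by rw [Subgroup.coe_inv, ← Units.val_mul, mul_inv_cancel, Units.val_one])
    exact ⟨T, e, m, hT⟩

open scoped commutatorElement in
theorem exists_lift_omega (g : OmG) : ∃ S, IsLift (toM g) S 1 1 := by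
  obtain ⟨g, hg⟩ := g
  have hg' : g ∈ Subgroup.closure (commutatorSet GO) := by
    rw [← commutator_eq_closure]
    exact hg
  show ∃ S, IsLift ((g : GL Idx (ZMod 3)) : Matrix Idx Idx (ZMod 3)) S 1 1
  induction hg' using Subgroup.closure_induction with
  | mem x hx =>
    obtain ⟨a, b, rfl⟩ := hx
    obtain ⟨S, e, m, hS⟩ := exists_lift a
    obtain ⟨T, f, n, hT⟩ := exists_lift b
    obtain ⟨S', hS', -⟩ := hS.inv (B := ((a⁻¹ : GO) : GL Idx (ZMod 3)).val)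
      (by rw [Subgroup.coe_inv, ← Units.val_mul, mul_inv_cancel, Units.val_one])
    obtain ⟨T', hT', -⟩ := hT.inv (B := ((b⁻¹ : GO) : GL Idx (ZMod 3)).val)
      (by rw [Subgroup.coe_inv, ← Units.val_mul, mul_inv_cancel, Units.val_one])
    have h := ((hS.mul hT).mul hS').mul hT'
    rw [show e * f * e * f = 1 by linear_combination (f * f) * hS.1 + hT.1,
      show m * n * m * n = 1 by linear_combination (n * n) * hS.2.1 + hT.2.1] at h
    exact ⟨_, by simpa [commutatorElement_def] using h⟩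
  | one => exact ⟨1, IsLift.one⟩
  | mul x y hx' hy' hx hy =>
    obtain ⟨S, hS⟩ := hx (by show x ∈ commutator GO; rw [commutator_eq_closure]; exact hx')
    obtain ⟨T, hT⟩ := hy (by show y ∈ commutator GO; rw [commutator_eq_closure]; exact hy')
    exact ⟨S * T, by simpa using hS.mul hT⟩
  | inv x hx' hx =>
    obtain ⟨S, hS⟩ := hx (by show x ∈ commutator GO; rw [commutator_eq_closure]; exact hx')
    obtain ⟨T, hT, -⟩ := hS.inv (B := ((x⁻¹ : GO) : GL Idx (ZMod 3)).val)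
      (by rw [Subgroup.coe_inv, ← Units.val_mul, mul_inv_cancel, Units.val_one])
    exact ⟨T, hT⟩

theorem vac : (clC0 * clW0) * (clC1 * clW1) * (clC2 * clW2) = Matrix.single (0 : Fin 8) 0 (1 : ZMod 3) := by
  decide +kernel

/-- Creation word. -/
def crW (s : Fin 8) : Mat8 :=
  (if s.val % 2 = 1 then clW0 else 1) * (if s.val / 2 % 2 = 1 then clW1 else 1) *
    (if s.val / 4 = 1 then clW2 else 1)

theorem crW_vac : ∀ s : Fin 8,
    crW s * Matrix.single (0 : Fin 8) (0 : Fin 8) (1 : ZMod 3) = (Matrix.single s (0 : Fin 8) (1 : ZMod 3) : Mat8) := by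
  decide +kernel

theorem commutant {X : Mat8} (h : ∀ i, X * cl i = cl i * X) : X = X 0 0 • (1 : Mat8) := by
  have h0 : Commute X clC0 := h (.inr (.inr 0))
  have h1 : Commute X clC1 := h (.inr (.inr 1))
  have h2 : Commute X clC2 := h (.inr (.inr 2))
  have w0 : Commute X clW0 := h (.inr (.inl 0))
  have w1 : Commute X clW1 := h (.inr (.inl 1))
  have w2 : Commute X clW2 := h (.inr (.inl 2))
  have hv : Commute X (Matrix.single (0 : Fin 8) 0 (1 : ZMod 3)) := by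
    rw [← vac]
    exact ((h0.mul_right w0).mul_right (h1.mul_right w1)).mul_right (h2.mul_right w2)
  ext r s
  have hc : Commute X (crW s) := by
    refine Commute.mul_right (Commute.mul_right ?_ ?_) ?_ <;>
      split_ifs <;> first | assumption | exact Commute.one_right _
  have he : Commute X (Matrix.single s 0 (1 : ZMod 3)) := by
    rw [← crW_vac s]
    exact hc.mul_right hv
  have := congrFun (congrFun he.eq r) 0
  simp [Matrix.mul_apply, Matrix.single_apply, Matrix.one_apply] at this ⊢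
  rw [this]
  split_ifs with e1 e2 <;> simp_all [eq_comm]

theorem rigid {A B : Matrix Idx Idx (ZMod 3)} {c d : ZMod 3} {SA SB T : Mat8} {W : Matrix Idx Idx (ZMod 3)}
    (hA : IsLift A SA 1 1) (hB : IsLift B SB 1 1) (hT : IsLift W T 1 1) (hA3 : SA * (SA * SA) = 1)
    (hB3 : SB * (SB * SB) = 1) (hWA : W * A = B * W)
    (hcA : (SA - 1)ᵀ * beta * (SA - 1) = c • Matrix.single (0 : Fin 8) 0 1)
    (hcB : (SB - 1)ᵀ * beta * (SB - 1) = d • Matrix.single (0 : Fin 8) 0 1) :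
    ∃ t : ZMod 3, c = d * (t * t) := by
  obtain ⟨-, -, a3, a4⟩ := hA
  obtain ⟨-, -, b3, b4⟩ := hB
  obtain ⟨-, -, t3, t4⟩ := hT
  simp only [one_smul] at a3 a4 b3 b4 t3 t4
  have hl : beta * Tᵀ * beta * T = 1 := by
    rw [show beta * Tᵀ * beta * T = beta * (Tᵀ * beta * T) by simp only [Matrix.mul_assoc], t3, beta_sq]
  have hr : T * (beta * Tᵀ * beta) = 1 := mul_eq_one_comm.1 hl
  have hl2 : beta * Tᵀ * beta * (SB * SB) * (SB * T) = 1 := by
    rw [show beta * Tᵀ * beta * (SB * SB) * (SB * T) = beta * Tᵀ * beta * (SB * (SB * SB)) * T by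
      simp only [Matrix.mul_assoc], hB3, Matrix.mul_one, hl]
  obtain ⟨X, hX⟩ : ∃ X, X = beta * Tᵀ * beta * (SB * SB) * (T * SA) := ⟨_, rfl⟩
  have hYX : SB * T * X = T * SA := by
    rw [hX, ← Matrix.mul_assoc, mul_eq_one_comm.1 hl2, Matrix.one_mul]
  have hcomm : ∀ i, X * cl i = cl i * X := by
    intro i
    rw [← gam_single i]
    generalize (Pi.single i (1 : ZMod 3) : Idx → ZMod 3) = v
    have e : SB * T * (X * gam v) = SB * T * (gam v * X) := by
      calc SB * T * (X * gam v) = T * (SA * gam v) := by rw [← Matrix.mul_assoc, hYX, Matrix.mul_assoc]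
        _ = gam (W *ᵥ (A *ᵥ v)) * (SB * T * X) := by
          rw [hYX, ← a4, ← Matrix.mul_assoc, ← t4, Matrix.mul_assoc]
        _ = gam (B *ᵥ (W *ᵥ v)) * SB * (T * X) := by
          rw [Matrix.mulVec_mulVec, hWA, ← Matrix.mulVec_mulVec]; simp only [Matrix.mul_assoc]
        _ = SB * (gam (W *ᵥ v) * T) * X := by rw [b4]; simp only [Matrix.mul_assoc]
        _ = SB * T * (gam v * X) := by rw [t4]; simp only [Matrix.mul_assoc]
    have := congrArg (fun Y => beta * Tᵀ * beta * (SB * SB) * Y) e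
    simp only [← Matrix.mul_assoc] at this
    simp only [← Matrix.mul_assoc] at hl2
    simpa only [hl2, Matrix.one_mul] using this
  obtain ⟨t, ht⟩ : ∃ t : ZMod 3, X = t • (1 : Mat8) := ⟨_, commutant hcomm⟩
  have hTA : T * SA = t • (SB * T) := by rw [← hYX, ht, Matrix.mul_smul, Matrix.mul_one]
  have h3 : T = (t * t * t) • T := by
    calc T = T * SA * SA * SA := by rw [Matrix.mul_assoc T SA SA, Matrix.mul_assoc T, Matrix.mul_assoc SA SA SA, hA3, Matrix.mul_one]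
      _ = (t * t * t) • (SB * (SB * SB) * T) := by
        simp only [hTA, Matrix.smul_mul, Matrix.mul_assoc, Matrix.mul_smul, smul_smul]
      _ = (t * t * t) • T := by rw [hB3, Matrix.one_mul]
  have ht1 : t = 1 := by
    have h4 := congrArg (fun Y => beta * Tᵀ * beta * Y) h3
    simp only [Matrix.mul_smul, hl] at h4
    have h5 := congrFun (congrFun h4 0) 0
    simp at h5
    revert h5
    generalize t = x
    revert x
    decide
  rw [ht1, one_smul] at hTA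
  have hN : T * (SA - 1) = (SB - 1) * T := by rw [Matrix.mul_sub, Matrix.sub_mul, hTA, Matrix.mul_one, Matrix.one_mul]
  refine ⟨T 0 0, ?_⟩
  have e : c • Matrix.single (0 : Fin 8) 0 (1 : ZMod 3) = d • (Tᵀ * Matrix.single (0 : Fin 8) 0 1 * T) := by
    rw [← hcA]
    conv_lhs => rw [← t3]
    calc (SA - 1)ᵀ * (Tᵀ * beta * T) * (SA - 1) = (T * (SA - 1))ᵀ * beta * (T * (SA - 1)) := by
          simp only [Matrix.transpose_mul, Matrix.mul_assoc]
      _ = Tᵀ * ((SB - 1)ᵀ * beta * (SB - 1)) * T := by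
          rw [hN]; simp only [Matrix.transpose_mul, Matrix.mul_assoc]
      _ = d • (Tᵀ * Matrix.single (0 : Fin 8) 0 1 * T) := by
          rw [hcB, Matrix.mul_smul, Matrix.smul_mul]
  have h5 := congrFun (congrFun e 0) 0
  simpa [Matrix.mul_apply, Matrix.single_apply, Fin.sum_univ_eight] using h5

end Cfsg.Agent.Lib.OmegaSeven
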