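import Cfsg.Agent.Lib.OmegaSeven.Core

/-!
Tables for the Sylow 3-subgroup (machine generated).
-/

set_option autoImplicit false

namespace Cfsg.Agent.Lib.OmegaSeven

/-- Root elements. -/
def genTab : List Cols := [
  [(9, 0), (2, 0), (4, 0), (8, 0), (16, 0), (32, 0), (65, 8)],
  [(1, 0), (2, 0), (4, 2), (8, 0), (48, 0), (32, 0), (64, 0)],
  [(1, 0), (2, 0), (4, 0), (8, 4), (16, 0), (96, 0), (64, 0)],
  [(5, 0), (2, 0), (4, 0), (8, 0), (16, 0), (33, 4), (64, 0)],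
  [(1, 0), (2, 0), (4, 0), (8, 2), (80, 0), (32, 0), (64, 0)],
  [(3, 0), (2, 0), (4, 0), (8, 0), (17, 2), (32, 0), (64, 0)],
  [(1, 0), (2, 0), (4, 0), (8, 0), (16, 0), (40, 0), (64, 4)],
  [(1, 0), (2, 0), (4, 0), (8, 0), (24, 0), (32, 0), (64, 2)],
  [(1, 0), (2, 0), (4, 0), (8, 0), (20, 0), (32, 2), (64, 0)],
  [(17, 0), (3, 16), (4, 0), (8, 0), (16, 0), (32, 0), (64, 0)],
  [(1, 0), (6, 0), (4, 0), (8, 0), (16, 0), (32, 16), (64, 0)],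
  [(1, 0), (34, 0), (4, 16), (8, 0), (16, 0), (32, 0), (64, 0)],
  [(1, 0), (10, 0), (4, 0), (8, 0), (16, 0), (32, 0), (64, 16)],
  [(1, 0), (66, 0), (4, 0), (8, 16), (16, 0), (32, 0), (64, 0)],
  [(33, 0), (2, 0), (5, 32), (8, 0), (16, 0), (32, 0), (64, 0)],
  [(1, 0), (2, 0), (12, 0), (8, 0), (16, 0), (32, 0), (64, 32)],
  [(1, 0), (2, 0), (68, 0), (8, 32), (16, 0), (32, 0), (64, 0)],
  [(65, 0), (2, 0), (4, 0), (9, 64), (16, 0), (32, 0), (64, 0)]]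

/-- Products of the first five root elements. -/
def preTab : List (List Cols) := [
  [[(1, 0), (2, 0), (4, 0), (8, 0), (16, 0), (32, 0), (64, 0)],
   [(1, 0), (2, 0), (4, 0), (8, 2), (80, 0), (32, 0), (64, 0)],
   [(1, 0), (2, 0), (4, 0), (10, 0), (16, 64), (32, 0), (64, 0)],
   [(5, 0), (2, 0), (4, 0), (8, 0), (16, 0), (33, 4), (64, 0)],
   [(5, 0), (2, 0), (4, 0), (8, 2), (80, 0), (33, 4), (64, 0)],
   [(5, 0), (2, 0), (4, 0), (10, 0), (16, 64), (33, 4), (64, 0)],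
   [(1, 4), (2, 0), (4, 0), (8, 0), (16, 0), (32, 5), (64, 0)],
   [(1, 4), (2, 0), (4, 0), (8, 2), (80, 0), (32, 5), (64, 0)],
   [(1, 4), (2, 0), (4, 0), (10, 0), (16, 64), (32, 5), (64, 0)]],
  [[(1, 0), (2, 0), (4, 0), (8, 4), (16, 0), (96, 0), (64, 0)],
   [(1, 0), (2, 0), (4, 0), (8, 6), (80, 0), (96, 0), (64, 0)],
   [(1, 0), (2, 0), (4, 0), (10, 4), (16, 64), (96, 0), (64, 0)],
   [(5, 0), (2, 0), (4, 0), (8, 4), (16, 0), (97, 4), (64, 0)],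
   [(5, 0), (2, 0), (4, 0), (8, 6), (80, 0), (97, 4), (64, 0)],
   [(5, 0), (2, 0), (4, 0), (10, 4), (16, 64), (97, 4), (64, 0)],
   [(1, 4), (2, 0), (4, 0), (8, 4), (16, 0), (96, 5), (64, 0)],
   [(1, 4), (2, 0), (4, 0), (8, 6), (80, 0), (96, 5), (64, 0)],
   [(1, 4), (2, 0), (4, 0), (10, 4), (16, 64), (96, 5), (64, 0)]],
  [[(1, 0), (2, 0), (4, 0), (12, 0), (16, 0), (32, 64), (64, 0)],
   [(1, 0), (2, 0), (4, 0), (12, 2), (80, 0), (32, 64), (64, 0)],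
   [(1, 0), (2, 0), (4, 0), (14, 0), (16, 64), (32, 64), (64, 0)],
   [(5, 0), (2, 0), (4, 0), (12, 0), (16, 0), (33, 68), (64, 0)],
   [(5, 0), (2, 0), (4, 0), (12, 2), (80, 0), (33, 68), (64, 0)],
   [(5, 0), (2, 0), (4, 0), (14, 0), (16, 64), (33, 68), (64, 0)],
   [(1, 4), (2, 0), (4, 0), (12, 0), (16, 0), (32, 69), (64, 0)],
   [(1, 4), (2, 0), (4, 0), (12, 2), (80, 0), (32, 69), (64, 0)],
   [(1, 4), (2, 0), (4, 0), (14, 0), (16, 64), (32, 69), (64, 0)]],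
  [[(1, 0), (2, 0), (4, 2), (8, 0), (48, 0), (32, 0), (64, 0)],
   [(1, 0), (2, 0), (4, 2), (8, 2), (112, 0), (32, 0), (64, 0)],
   [(1, 0), (2, 0), (4, 2), (10, 0), (48, 64), (32, 0), (64, 0)],
   [(5, 2), (2, 0), (4, 2), (8, 0), (48, 0), (35, 4), (64, 0)],
   [(5, 2), (2, 0), (4, 2), (8, 2), (112, 0), (35, 4), (64, 0)],
   [(5, 2), (2, 0), (4, 2), (10, 0), (48, 64), (35, 4), (64, 0)],
   [(3, 4), (2, 0), (4, 2), (8, 0), (48, 0), (34, 5), (64, 0)],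
   [(3, 4), (2, 0), (4, 2), (8, 2), (112, 0), (34, 5), (64, 0)],
   [(3, 4), (2, 0), (4, 2), (10, 0), (48, 64), (34, 5), (64, 0)]],
  [[(1, 0), (2, 0), (4, 2), (10, 4), (48, 0), (96, 0), (64, 0)],
   [(1, 0), (2, 0), (4, 2), (8, 4), (112, 0), (96, 0), (64, 0)],
   [(1, 0), (2, 0), (4, 2), (8, 6), (48, 64), (96, 0), (64, 0)],
   [(5, 2), (2, 0), (4, 2), (10, 4), (48, 0), (99, 4), (64, 0)],
   [(5, 2), (2, 0), (4, 2), (8, 4), (112, 0), (99, 4), (64, 0)],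
   [(5, 2), (2, 0), (4, 2), (8, 6), (48, 64), (99, 4), (64, 0)],
   [(3, 4), (2, 0), (4, 2), (10, 4), (48, 0), (98, 5), (64, 0)],
   [(3, 4), (2, 0), (4, 2), (8, 4), (112, 0), (98, 5), (64, 0)],
   [(3, 4), (2, 0), (4, 2), (8, 6), (48, 64), (98, 5), (64, 0)]],
  [[(1, 0), (2, 0), (4, 2), (12, 2), (48, 0), (32, 64), (64, 0)],
   [(1, 0), (2, 0), (4, 2), (14, 0), (112, 0), (32, 64), (64, 0)],
   [(1, 0), (2, 0), (4, 2), (12, 0), (48, 64), (32, 64), (64, 0)],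
   [(5, 2), (2, 0), (4, 2), (12, 2), (48, 0), (35, 68), (64, 0)],
   [(5, 2), (2, 0), (4, 2), (14, 0), (112, 0), (35, 68), (64, 0)],
   [(5, 2), (2, 0), (4, 2), (12, 0), (48, 64), (35, 68), (64, 0)],
   [(3, 4), (2, 0), (4, 2), (12, 2), (48, 0), (34, 69), (64, 0)],
   [(3, 4), (2, 0), (4, 2), (14, 0), (112, 0), (34, 69), (64, 0)],
   [(3, 4), (2, 0), (4, 2), (12, 0), (48, 64), (34, 69), (64, 0)]],
  [[(1, 0), (2, 0), (6, 0), (8, 0), (16, 32), (32, 0), (64, 0)],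
   [(1, 0), (2, 0), (6, 0), (8, 2), (80, 32), (32, 0), (64, 0)],
   [(1, 0), (2, 0), (6, 0), (10, 0), (16, 96), (32, 0), (64, 0)],
   [(7, 0), (2, 0), (6, 0), (8, 0), (16, 32), (33, 6), (64, 0)],
   [(7, 0), (2, 0), (6, 0), (8, 2), (80, 32), (33, 6), (64, 0)],
   [(7, 0), (2, 0), (6, 0), (10, 0), (16, 96), (33, 6), (64, 0)],
   [(1, 6), (2, 0), (6, 0), (8, 0), (16, 32), (32, 7), (64, 0)],
   [(1, 6), (2, 0), (6, 0), (8, 2), (80, 32), (32, 7), (64, 0)],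
   [(1, 6), (2, 0), (6, 0), (10, 0), (16, 96), (32, 7), (64, 0)]],
  [[(1, 0), (2, 0), (6, 0), (8, 6), (16, 32), (96, 0), (64, 0)],
   [(1, 0), (2, 0), (6, 0), (10, 4), (80, 32), (96, 0), (64, 0)],
   [(1, 0), (2, 0), (6, 0), (8, 4), (16, 96), (96, 0), (64, 0)],
   [(7, 0), (2, 0), (6, 0), (8, 6), (16, 32), (97, 6), (64, 0)],
   [(7, 0), (2, 0), (6, 0), (10, 4), (80, 32), (97, 6), (64, 0)],
   [(7, 0), (2, 0), (6, 0), (8, 4), (16, 96), (97, 6), (64, 0)],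
   [(1, 6), (2, 0), (6, 0), (8, 6), (16, 32), (96, 7), (64, 0)],
   [(1, 6), (2, 0), (6, 0), (10, 4), (80, 32), (96, 7), (64, 0)],
   [(1, 6), (2, 0), (6, 0), (8, 4), (16, 96), (96, 7), (64, 0)]],
  [[(1, 0), (2, 0), (6, 0), (14, 0), (16, 32), (32, 64), (64, 0)],
   [(1, 0), (2, 0), (6, 0), (12, 0), (80, 32), (32, 64), (64, 0)],
   [(1, 0), (2, 0), (6, 0), (12, 2), (16, 96), (32, 64), (64, 0)],
   [(7, 0), (2, 0), (6, 0), (14, 0), (16, 32), (33, 70), (64, 0)],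
   [(7, 0), (2, 0), (6, 0), (12, 0), (80, 32), (33, 70), (64, 0)],
   [(7, 0), (2, 0), (6, 0), (12, 2), (16, 96), (33, 70), (64, 0)],
   [(1, 6), (2, 0), (6, 0), (14, 0), (16, 32), (32, 71), (64, 0)],
   [(1, 6), (2, 0), (6, 0), (12, 0), (80, 32), (32, 71), (64, 0)],
   [(1, 6), (2, 0), (6, 0), (12, 2), (16, 96), (32, 71), (64, 0)]],
  [[(9, 0), (2, 0), (4, 0), (8, 0), (16, 0), (32, 0), (65, 8)],
   [(9, 0), (2, 0), (4, 0), (8, 2), (81, 8), (32, 0), (65, 8)],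
   [(9, 0), (2, 0), (4, 0), (10, 0), (24, 65), (32, 0), (65, 8)],
   [(13, 0), (2, 0), (4, 0), (8, 0), (16, 0), (41, 4), (65, 8)],
   [(13, 0), (2, 0), (4, 0), (8, 2), (81, 8), (41, 4), (65, 8)],
   [(13, 0), (2, 0), (4, 0), (10, 0), (24, 65), (41, 4), (65, 8)],
   [(9, 4), (2, 0), (4, 0), (8, 0), (16, 0), (32, 13), (65, 8)],
   [(9, 4), (2, 0), (4, 0), (8, 2), (81, 8), (32, 13), (65, 8)],
   [(9, 4), (2, 0), (4, 0), (10, 0), (24, 65), (32, 13), (65, 8)]],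
  [[(9, 0), (2, 0), (4, 0), (8, 4), (16, 0), (97, 8), (65, 8)],
   [(9, 0), (2, 0), (4, 0), (8, 6), (81, 8), (97, 8), (65, 8)],
   [(9, 0), (2, 0), (4, 0), (10, 4), (24, 65), (97, 8), (65, 8)],
   [(13, 0), (2, 0), (4, 0), (8, 4), (16, 0), (96, 5), (65, 8)],
   [(13, 0), (2, 0), (4, 0), (8, 6), (81, 8), (96, 5), (65, 8)],
   [(13, 0), (2, 0), (4, 0), (10, 4), (24, 65), (96, 5), (65, 8)],
   [(9, 4), (2, 0), (4, 0), (8, 4), (16, 0), (104, 4), (65, 8)],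
   [(9, 4), (2, 0), (4, 0), (8, 6), (81, 8), (104, 4), (65, 8)],
   [(9, 4), (2, 0), (4, 0), (10, 4), (24, 65), (104, 4), (65, 8)]],
  [[(9, 0), (2, 0), (4, 0), (12, 0), (16, 0), (40, 65), (65, 8)],
   [(9, 0), (2, 0), (4, 0), (12, 2), (81, 8), (40, 65), (65, 8)],
   [(9, 0), (2, 0), (4, 0), (14, 0), (24, 65), (40, 65), (65, 8)],
   [(13, 0), (2, 0), (4, 0), (12, 0), (16, 0), (32, 76), (65, 8)],
   [(13, 0), (2, 0), (4, 0), (12, 2), (81, 8), (32, 76), (65, 8)],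
   [(13, 0), (2, 0), (4, 0), (14, 0), (24, 65), (32, 76), (65, 8)],
   [(9, 4), (2, 0), (4, 0), (12, 0), (16, 0), (33, 68), (65, 8)],
   [(9, 4), (2, 0), (4, 0), (12, 2), (81, 8), (33, 68), (65, 8)],
   [(9, 4), (2, 0), (4, 0), (14, 0), (24, 65), (33, 68), (65, 8)]],
  [[(9, 0), (2, 0), (4, 2), (8, 0), (48, 0), (32, 0), (65, 8)],
   [(9, 0), (2, 0), (4, 2), (8, 2), (113, 8), (32, 0), (65, 8)],
   [(9, 0), (2, 0), (4, 2), (10, 0), (56, 65), (32, 0), (65, 8)],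
   [(13, 2), (2, 0), (4, 2), (8, 0), (48, 0), (43, 4), (65, 8)],
   [(13, 2), (2, 0), (4, 2), (8, 2), (113, 8), (43, 4), (65, 8)],
   [(13, 2), (2, 0), (4, 2), (10, 0), (56, 65), (43, 4), (65, 8)],
   [(11, 4), (2, 0), (4, 2), (8, 0), (48, 0), (34, 13), (65, 8)],
   [(11, 4), (2, 0), (4, 2), (8, 2), (113, 8), (34, 13), (65, 8)],
   [(11, 4), (2, 0), (4, 2), (10, 0), (56, 65), (34, 13), (65, 8)]],
  [[(9, 0), (2, 0), (4, 2), (10, 4), (48, 0), (97, 8), (65, 8)],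
   [(9, 0), (2, 0), (4, 2), (8, 4), (113, 8), (97, 8), (65, 8)],
   [(9, 0), (2, 0), (4, 2), (8, 6), (56, 65), (97, 8), (65, 8)],
   [(13, 2), (2, 0), (4, 2), (10, 4), (48, 0), (98, 5), (65, 8)],
   [(13, 2), (2, 0), (4, 2), (8, 4), (113, 8), (98, 5), (65, 8)],
   [(13, 2), (2, 0), (4, 2), (8, 6), (56, 65), (98, 5), (65, 8)],
   [(11, 4), (2, 0), (4, 2), (10, 4), (48, 0), (106, 4), (65, 8)],
   [(11, 4), (2, 0), (4, 2), (8, 4), (113, 8), (106, 4), (65, 8)],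
   [(11, 4), (2, 0), (4, 2), (8, 6), (56, 65), (106, 4), (65, 8)]],
  [[(9, 0), (2, 0), (4, 2), (12, 2), (48, 0), (40, 65), (65, 8)],
   [(9, 0), (2, 0), (4, 2), (14, 0), (113, 8), (40, 65), (65, 8)],
   [(9, 0), (2, 0), (4, 2), (12, 0), (56, 65), (40, 65), (65, 8)],
   [(13, 2), (2, 0), (4, 2), (12, 2), (48, 0), (34, 76), (65, 8)],
   [(13, 2), (2, 0), (4, 2), (14, 0), (113, 8), (34, 76), (65, 8)],
   [(13, 2), (2, 0), (4, 2), (12, 0), (56, 65), (34, 76), (65, 8)],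
   [(11, 4), (2, 0), (4, 2), (12, 2), (48, 0), (35, 68), (65, 8)],
   [(11, 4), (2, 0), (4, 2), (14, 0), (113, 8), (35, 68), (65, 8)],
   [(11, 4), (2, 0), (4, 2), (12, 0), (56, 65), (35, 68), (65, 8)]],
  [[(9, 0), (2, 0), (6, 0), (8, 0), (16, 32), (32, 0), (65, 8)],
   [(9, 0), (2, 0), (6, 0), (8, 2), (81, 40), (32, 0), (65, 8)],
   [(9, 0), (2, 0), (6, 0), (10, 0), (24, 97), (32, 0), (65, 8)],
   [(15, 0), (2, 0), (6, 0), (8, 0), (16, 32), (41, 6), (65, 8)],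
   [(15, 0), (2, 0), (6, 0), (8, 2), (81, 40), (41, 6), (65, 8)],
   [(15, 0), (2, 0), (6, 0), (10, 0), (24, 97), (41, 6), (65, 8)],
   [(9, 6), (2, 0), (6, 0), (8, 0), (16, 32), (32, 15), (65, 8)],
   [(9, 6), (2, 0), (6, 0), (8, 2), (81, 40), (32, 15), (65, 8)],
   [(9, 6), (2, 0), (6, 0), (10, 0), (24, 97), (32, 15), (65, 8)]],
  [[(9, 0), (2, 0), (6, 0), (8, 6), (16, 32), (97, 8), (65, 8)],
   [(9, 0), (2, 0), (6, 0), (10, 4), (81, 40), (97, 8), (65, 8)],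
   [(9, 0), (2, 0), (6, 0), (8, 4), (24, 97), (97, 8), (65, 8)],
   [(15, 0), (2, 0), (6, 0), (8, 6), (16, 32), (96, 7), (65, 8)],
   [(15, 0), (2, 0), (6, 0), (10, 4), (81, 40), (96, 7), (65, 8)],
   [(15, 0), (2, 0), (6, 0), (8, 4), (24, 97), (96, 7), (65, 8)],
   [(9, 6), (2, 0), (6, 0), (8, 6), (16, 32), (104, 6), (65, 8)],
   [(9, 6), (2, 0), (6, 0), (10, 4), (81, 40), (104, 6), (65, 8)],
   [(9, 6), (2, 0), (6, 0), (8, 4), (24, 97), (104, 6), (65, 8)]],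
  [[(9, 0), (2, 0), (6, 0), (14, 0), (16, 32), (40, 65), (65, 8)],
   [(9, 0), (2, 0), (6, 0), (12, 0), (81, 40), (40, 65), (65, 8)],
   [(9, 0), (2, 0), (6, 0), (12, 2), (24, 97), (40, 65), (65, 8)],
   [(15, 0), (2, 0), (6, 0), (14, 0), (16, 32), (32, 78), (65, 8)],
   [(15, 0), (2, 0), (6, 0), (12, 0), (81, 40), (32, 78), (65, 8)],
   [(15, 0), (2, 0), (6, 0), (12, 2), (24, 97), (32, 78), (65, 8)],
   [(9, 6), (2, 0), (6, 0), (14, 0), (16, 32), (33, 70), (65, 8)],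
   [(9, 6), (2, 0), (6, 0), (12, 0), (81, 40), (33, 70), (65, 8)],
   [(9, 6), (2, 0), (6, 0), (12, 2), (24, 97), (33, 70), (65, 8)]],
  [[(1, 8), (2, 0), (4, 0), (8, 0), (16, 0), (32, 0), (64, 9)],
   [(1, 8), (2, 0), (4, 0), (8, 2), (80, 9), (32, 0), (64, 9)],
   [(1, 8), (2, 0), (4, 0), (10, 0), (25, 64), (32, 0), (64, 9)],
   [(5, 8), (2, 0), (4, 0), (8, 0), (16, 0), (33, 12), (64, 9)],
   [(5, 8), (2, 0), (4, 0), (8, 2), (80, 9), (33, 12), (64, 9)],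
   [(5, 8), (2, 0), (4, 0), (10, 0), (25, 64), (33, 12), (64, 9)],
   [(1, 12), (2, 0), (4, 0), (8, 0), (16, 0), (40, 5), (64, 9)],
   [(1, 12), (2, 0), (4, 0), (8, 2), (80, 9), (40, 5), (64, 9)],
   [(1, 12), (2, 0), (4, 0), (10, 0), (25, 64), (40, 5), (64, 9)]],
  [[(1, 8), (2, 0), (4, 0), (8, 4), (16, 0), (96, 9), (64, 9)],
   [(1, 8), (2, 0), (4, 0), (8, 6), (80, 9), (96, 9), (64, 9)],
   [(1, 8), (2, 0), (4, 0), (10, 4), (25, 64), (96, 9), (64, 9)],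
   [(5, 8), (2, 0), (4, 0), (8, 4), (16, 0), (104, 4), (64, 9)],
   [(5, 8), (2, 0), (4, 0), (8, 6), (80, 9), (104, 4), (64, 9)],
   [(5, 8), (2, 0), (4, 0), (10, 4), (25, 64), (104, 4), (64, 9)],
   [(1, 12), (2, 0), (4, 0), (8, 4), (16, 0), (97, 4), (64, 9)],
   [(1, 12), (2, 0), (4, 0), (8, 6), (80, 9), (97, 4), (64, 9)],
   [(1, 12), (2, 0), (4, 0), (10, 4), (25, 64), (97, 4), (64, 9)]],
  [[(1, 8), (2, 0), (4, 0), (12, 0), (16, 0), (41, 64), (64, 9)],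
   [(1, 8), (2, 0), (4, 0), (12, 2), (80, 9), (41, 64), (64, 9)],
   [(1, 8), (2, 0), (4, 0), (14, 0), (25, 64), (41, 64), (64, 9)],
   [(5, 8), (2, 0), (4, 0), (12, 0), (16, 0), (32, 69), (64, 9)],
   [(5, 8), (2, 0), (4, 0), (12, 2), (80, 9), (32, 69), (64, 9)],
   [(5, 8), (2, 0), (4, 0), (14, 0), (25, 64), (32, 69), (64, 9)],
   [(1, 12), (2, 0), (4, 0), (12, 0), (16, 0), (32, 76), (64, 9)],
   [(1, 12), (2, 0), (4, 0), (12, 2), (80, 9), (32, 76), (64, 9)],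
   [(1, 12), (2, 0), (4, 0), (14, 0), (25, 64), (32, 76), (64, 9)]],
  [[(1, 8), (2, 0), (4, 2), (8, 0), (48, 0), (32, 0), (64, 9)],
   [(1, 8), (2, 0), (4, 2), (8, 2), (112, 9), (32, 0), (64, 9)],
   [(1, 8), (2, 0), (4, 2), (10, 0), (57, 64), (32, 0), (64, 9)],
   [(5, 10), (2, 0), (4, 2), (8, 0), (48, 0), (35, 12), (64, 9)],
   [(5, 10), (2, 0), (4, 2), (8, 2), (112, 9), (35, 12), (64, 9)],
   [(5, 10), (2, 0), (4, 2), (10, 0), (57, 64), (35, 12), (64, 9)],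
   [(3, 12), (2, 0), (4, 2), (8, 0), (48, 0), (42, 5), (64, 9)],
   [(3, 12), (2, 0), (4, 2), (8, 2), (112, 9), (42, 5), (64, 9)],
   [(3, 12), (2, 0), (4, 2), (10, 0), (57, 64), (42, 5), (64, 9)]],
  [[(1, 8), (2, 0), (4, 2), (10, 4), (48, 0), (96, 9), (64, 9)],
   [(1, 8), (2, 0), (4, 2), (8, 4), (112, 9), (96, 9), (64, 9)],
   [(1, 8), (2, 0), (4, 2), (8, 6), (57, 64), (96, 9), (64, 9)],
   [(5, 10), (2, 0), (4, 2), (10, 4), (48, 0), (106, 4), (64, 9)],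
   [(5, 10), (2, 0), (4, 2), (8, 4), (112, 9), (106, 4), (64, 9)],
   [(5, 10), (2, 0), (4, 2), (8, 6), (57, 64), (106, 4), (64, 9)],
   [(3, 12), (2, 0), (4, 2), (10, 4), (48, 0), (99, 4), (64, 9)],
   [(3, 12), (2, 0), (4, 2), (8, 4), (112, 9), (99, 4), (64, 9)],
   [(3, 12), (2, 0), (4, 2), (8, 6), (57, 64), (99, 4), (64, 9)]],
  [[(1, 8), (2, 0), (4, 2), (12, 2), (48, 0), (41, 64), (64, 9)],
   [(1, 8), (2, 0), (4, 2), (14, 0), (112, 9), (41, 64), (64, 9)],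
   [(1, 8), (2, 0), (4, 2), (12, 0), (57, 64), (41, 64), (64, 9)],
   [(5, 10), (2, 0), (4, 2), (12, 2), (48, 0), (34, 69), (64, 9)],
   [(5, 10), (2, 0), (4, 2), (14, 0), (112, 9), (34, 69), (64, 9)],
   [(5, 10), (2, 0), (4, 2), (12, 0), (57, 64), (34, 69), (64, 9)],
   [(3, 12), (2, 0), (4, 2), (12, 2), (48, 0), (34, 76), (64, 9)],
   [(3, 12), (2, 0), (4, 2), (14, 0), (112, 9), (34, 76), (64, 9)],
   [(3, 12), (2, 0), (4, 2), (12, 0), (57, 64), (34, 76), (64, 9)]],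
  [[(1, 8), (2, 0), (6, 0), (8, 0), (16, 32), (32, 0), (64, 9)],
   [(1, 8), (2, 0), (6, 0), (8, 2), (80, 41), (32, 0), (64, 9)],
   [(1, 8), (2, 0), (6, 0), (10, 0), (25, 96), (32, 0), (64, 9)],
   [(7, 8), (2, 0), (6, 0), (8, 0), (16, 32), (33, 14), (64, 9)],
   [(7, 8), (2, 0), (6, 0), (8, 2), (80, 41), (33, 14), (64, 9)],
   [(7, 8), (2, 0), (6, 0), (10, 0), (25, 96), (33, 14), (64, 9)],
   [(1, 14), (2, 0), (6, 0), (8, 0), (16, 32), (40, 7), (64, 9)],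
   [(1, 14), (2, 0), (6, 0), (8, 2), (80, 41), (40, 7), (64, 9)],
   [(1, 14), (2, 0), (6, 0), (10, 0), (25, 96), (40, 7), (64, 9)]],
  [[(1, 8), (2, 0), (6, 0), (8, 6), (16, 32), (96, 9), (64, 9)],
   [(1, 8), (2, 0), (6, 0), (10, 4), (80, 41), (96, 9), (64, 9)],
   [(1, 8), (2, 0), (6, 0), (8, 4), (25, 96), (96, 9), (64, 9)],
   [(7, 8), (2, 0), (6, 0), (8, 6), (16, 32), (104, 6), (64, 9)],
   [(7, 8), (2, 0), (6, 0), (10, 4), (80, 41), (104, 6), (64, 9)],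
   [(7, 8), (2, 0), (6, 0), (8, 4), (25, 96), (104, 6), (64, 9)],
   [(1, 14), (2, 0), (6, 0), (8, 6), (16, 32), (97, 6), (64, 9)],
   [(1, 14), (2, 0), (6, 0), (10, 4), (80, 41), (97, 6), (64, 9)],
   [(1, 14), (2, 0), (6, 0), (8, 4), (25, 96), (97, 6), (64, 9)]],
  [[(1, 8), (2, 0), (6, 0), (14, 0), (16, 32), (41, 64), (64, 9)],
   [(1, 8), (2, 0), (6, 0), (12, 0), (80, 41), (41, 64), (64, 9)],
   [(1, 8), (2, 0), (6, 0), (12, 2), (25, 96), (41, 64), (64, 9)],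
   [(7, 8), (2, 0), (6, 0), (14, 0), (16, 32), (32, 71), (64, 9)],
   [(7, 8), (2, 0), (6, 0), (12, 0), (80, 41), (32, 71), (64, 9)],
   [(7, 8), (2, 0), (6, 0), (12, 2), (25, 96), (32, 71), (64, 9)],
   [(1, 14), (2, 0), (6, 0), (14, 0), (16, 32), (32, 78), (64, 9)],
   [(1, 14), (2, 0), (6, 0), (12, 0), (80, 41), (32, 78), (64, 9)],
   [(1, 14), (2, 0), (6, 0), (12, 2), (25, 96), (32, 78), (64, 9)]]]

/-- Products of the last four root elements. -/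
def sufTab : List (List Cols) := [
  [[(1, 0), (2, 0), (4, 0), (8, 0), (16, 0), (32, 0), (64, 0)],
   [(1, 0), (2, 0), (4, 0), (8, 0), (20, 0), (32, 2), (64, 0)],
   [(1, 0), (2, 0), (4, 0), (8, 0), (16, 4), (34, 0), (64, 0)],
   [(1, 0), (2, 0), (4, 0), (8, 0), (24, 0), (32, 0), (64, 2)],
   [(1, 0), (2, 0), (4, 0), (8, 0), (28, 0), (32, 2), (64, 2)],
   [(1, 0), (2, 0), (4, 0), (8, 0), (24, 4), (34, 0), (64, 2)],
   [(1, 0), (2, 0), (4, 0), (8, 0), (16, 8), (32, 0), (66, 0)],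
   [(1, 0), (2, 0), (4, 0), (8, 0), (20, 8), (32, 2), (66, 0)],
   [(1, 0), (2, 0), (4, 0), (8, 0), (16, 12), (34, 0), (66, 0)]],
  [[(1, 0), (2, 0), (4, 0), (8, 0), (16, 0), (40, 0), (64, 4)],
   [(1, 0), (2, 0), (4, 0), (8, 0), (20, 0), (40, 2), (64, 4)],
   [(1, 0), (2, 0), (4, 0), (8, 0), (16, 4), (42, 0), (64, 4)],
   [(1, 0), (2, 0), (4, 0), (8, 0), (24, 0), (40, 0), (64, 6)],
   [(1, 0), (2, 0), (4, 0), (8, 0), (28, 0), (40, 2), (64, 6)],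
   [(1, 0), (2, 0), (4, 0), (8, 0), (24, 4), (42, 0), (64, 6)],
   [(1, 0), (2, 0), (4, 0), (8, 0), (16, 8), (40, 0), (66, 4)],
   [(1, 0), (2, 0), (4, 0), (8, 0), (20, 8), (40, 2), (66, 4)],
   [(1, 0), (2, 0), (4, 0), (8, 0), (16, 12), (42, 0), (66, 4)]],
  [[(1, 0), (2, 0), (4, 0), (8, 0), (16, 0), (32, 8), (68, 0)],
   [(1, 0), (2, 0), (4, 0), (8, 0), (20, 0), (32, 10), (68, 0)],
   [(1, 0), (2, 0), (4, 0), (8, 0), (16, 4), (34, 8), (68, 0)],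
   [(1, 0), (2, 0), (4, 0), (8, 0), (24, 0), (32, 8), (68, 2)],
   [(1, 0), (2, 0), (4, 0), (8, 0), (28, 0), (32, 10), (68, 2)],
   [(1, 0), (2, 0), (4, 0), (8, 0), (24, 4), (34, 8), (68, 2)],
   [(1, 0), (2, 0), (4, 0), (8, 0), (16, 8), (32, 8), (70, 0)],
   [(1, 0), (2, 0), (4, 0), (8, 0), (20, 8), (32, 10), (70, 0)],
   [(1, 0), (2, 0), (4, 0), (8, 0), (16, 12), (34, 8), (70, 0)]],
  [[(3, 0), (2, 0), (4, 0), (8, 0), (17, 2), (32, 0), (64, 0)],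
   [(3, 0), (2, 0), (4, 0), (8, 0), (21, 2), (32, 2), (64, 0)],
   [(3, 0), (2, 0), (4, 0), (8, 0), (17, 6), (34, 0), (64, 0)],
   [(3, 0), (2, 0), (4, 0), (8, 0), (25, 2), (32, 0), (64, 2)],
   [(3, 0), (2, 0), (4, 0), (8, 0), (29, 2), (32, 2), (64, 2)],
   [(3, 0), (2, 0), (4, 0), (8, 0), (25, 6), (34, 0), (64, 2)],
   [(3, 0), (2, 0), (4, 0), (8, 0), (17, 10), (32, 0), (66, 0)],
   [(3, 0), (2, 0), (4, 0), (8, 0), (21, 10), (32, 2), (66, 0)],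
   [(3, 0), (2, 0), (4, 0), (8, 0), (17, 14), (34, 0), (66, 0)]],
  [[(3, 0), (2, 0), (4, 0), (8, 0), (17, 2), (40, 0), (64, 4)],
   [(3, 0), (2, 0), (4, 0), (8, 0), (21, 2), (40, 2), (64, 4)],
   [(3, 0), (2, 0), (4, 0), (8, 0), (17, 6), (42, 0), (64, 4)],
   [(3, 0), (2, 0), (4, 0), (8, 0), (25, 2), (40, 0), (64, 6)],
   [(3, 0), (2, 0), (4, 0), (8, 0), (29, 2), (40, 2), (64, 6)],
   [(3, 0), (2, 0), (4, 0), (8, 0), (25, 6), (42, 0), (64, 6)],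
   [(3, 0), (2, 0), (4, 0), (8, 0), (17, 10), (40, 0), (66, 4)],
   [(3, 0), (2, 0), (4, 0), (8, 0), (21, 10), (40, 2), (66, 4)],
   [(3, 0), (2, 0), (4, 0), (8, 0), (17, 14), (42, 0), (66, 4)]],
  [[(3, 0), (2, 0), (4, 0), (8, 0), (17, 2), (32, 8), (68, 0)],
   [(3, 0), (2, 0), (4, 0), (8, 0), (21, 2), (32, 10), (68, 0)],
   [(3, 0), (2, 0), (4, 0), (8, 0), (17, 6), (34, 8), (68, 0)],
   [(3, 0), (2, 0), (4, 0), (8, 0), (25, 2), (32, 8), (68, 2)],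
   [(3, 0), (2, 0), (4, 0), (8, 0), (29, 2), (32, 10), (68, 2)],
   [(3, 0), (2, 0), (4, 0), (8, 0), (25, 6), (34, 8), (68, 2)],
   [(3, 0), (2, 0), (4, 0), (8, 0), (17, 10), (32, 8), (70, 0)],
   [(3, 0), (2, 0), (4, 0), (8, 0), (21, 10), (32, 10), (70, 0)],
   [(3, 0), (2, 0), (4, 0), (8, 0), (17, 14), (34, 8), (70, 0)]],
  [[(1, 2), (2, 0), (4, 0), (8, 0), (16, 3), (32, 0), (64, 0)],
   [(1, 2), (2, 0), (4, 0), (8, 0), (20, 3), (32, 2), (64, 0)],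
   [(1, 2), (2, 0), (4, 0), (8, 0), (16, 7), (34, 0), (64, 0)],
   [(1, 2), (2, 0), (4, 0), (8, 0), (24, 3), (32, 0), (64, 2)],
   [(1, 2), (2, 0), (4, 0), (8, 0), (28, 3), (32, 2), (64, 2)],
   [(1, 2), (2, 0), (4, 0), (8, 0), (24, 7), (34, 0), (64, 2)],
   [(1, 2), (2, 0), (4, 0), (8, 0), (16, 11), (32, 0), (66, 0)],
   [(1, 2), (2, 0), (4, 0), (8, 0), (20, 11), (32, 2), (66, 0)],
   [(1, 2), (2, 0), (4, 0), (8, 0), (16, 15), (34, 0), (66, 0)]],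
  [[(1, 2), (2, 0), (4, 0), (8, 0), (16, 3), (40, 0), (64, 4)],
   [(1, 2), (2, 0), (4, 0), (8, 0), (20, 3), (40, 2), (64, 4)],
   [(1, 2), (2, 0), (4, 0), (8, 0), (16, 7), (42, 0), (64, 4)],
   [(1, 2), (2, 0), (4, 0), (8, 0), (24, 3), (40, 0), (64, 6)],
   [(1, 2), (2, 0), (4, 0), (8, 0), (28, 3), (40, 2), (64, 6)],
   [(1, 2), (2, 0), (4, 0), (8, 0), (24, 7), (42, 0), (64, 6)],
   [(1, 2), (2, 0), (4, 0), (8, 0), (16, 11), (40, 0), (66, 4)],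
   [(1, 2), (2, 0), (4, 0), (8, 0), (20, 11), (40, 2), (66, 4)],
   [(1, 2), (2, 0), (4, 0), (8, 0), (16, 15), (42, 0), (66, 4)]],
  [[(1, 2), (2, 0), (4, 0), (8, 0), (16, 3), (32, 8), (68, 0)],
   [(1, 2), (2, 0), (4, 0), (8, 0), (20, 3), (32, 10), (68, 0)],
   [(1, 2), (2, 0), (4, 0), (8, 0), (16, 7), (34, 8), (68, 0)],
   [(1, 2), (2, 0), (4, 0), (8, 0), (24, 3), (32, 8), (68, 2)],
   [(1, 2), (2, 0), (4, 0), (8, 0), (28, 3), (32, 10), (68, 2)],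
   [(1, 2), (2, 0), (4, 0), (8, 0), (24, 7), (34, 8), (68, 2)],
   [(1, 2), (2, 0), (4, 0), (8, 0), (16, 11), (32, 8), (70, 0)],
   [(1, 2), (2, 0), (4, 0), (8, 0), (20, 11), (32, 10), (70, 0)],
   [(1, 2), (2, 0), (4, 0), (8, 0), (16, 15), (34, 8), (70, 0)]]]

/-- Representatives. -/
def repCodes : List ℕ := [45, 36, 327, 1, 87, 27, 90]

end Cfsg.Agent.Lib.OmegaSeven
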